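import Mathlib
import Cfsg.Agent.Lib.Helper85.KS12.HComm
import Cfsg.Agent.Lib.Helper2.KS12.PZ4
import Cfsg.Agent.Lib.Helper74.KS12.FFMin
import Cfsg.Agent.Lib.Helper81.KS12.S2950Core

/-!
Kurzweil–Stellmacher chapter 12 cluster: the closed form of the package "hComm" —
two distinct `J(T)`-components of `L ∈ jOvergroups T` centralize each other's four-groups —
assembled from `hComm_core` (helper85), P-Z (helper2: `C_L(V) ≤ N(J(T))`, `V ≤ J(T)`) and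
FF-min (helper74: `[K₁, K₂] ≤ C_L(V)`).  (helper85)
-/

set_option autoImplicit false

namespace Cfsg.Agent.Lib.Helper85.KS12

open Cfsg

variable {G : Type*} [Group G]

/-- Two distinct `J(T)`-components `K₁, K₂` of `L ∈ jOvergroups T`: `K₂` centralizes `W_{K₁}`. -/
theorem jComp_centralize_wOf [Finite G] (hL : Cfsg.IsCharacteristicTwoType G)
    (hN : ∀ N : Subgroup G, Cfsg.IsTwoLocal N → Group.IsSolvable ↥N)
    (hZ : ∀ S : Sylow 2 G, Subgroup.centralizer (Cfsg.omegaCenterOf (S : Subgroup G) : Set G) ≤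
      Subgroup.normalizer ((S : Subgroup G) : Set G))
    (T L : Subgroup G) (hT : IsPGroup 2 T) (hT1 : T ≠ ⊥) (hLT : L ∈ jOvergroups T)
    (K₁ K₂ : Subgroup G) (hK₁ : IsJComponent T K₁) (hK₂ : IsJComponent T K₂) (hK₁L : K₁ ≤ L)
    (hK₂L : K₂ ≤ L) (hne : K₁ ≠ K₂) : K₂ ≤ Subgroup.centralizer (wOf K₁ : Set G) :=
  hComm_core hL hN hZ T L hT hT1 hLT
    (Cfsg.Agent.Lib.Helper2.KS12.CL_le_normalizer_thompson hZ hLT.1 hLT.2.2)
    (Cfsg.Agent.Lib.Helper2.KS12.VL_le_thompson hN hZ hT1 hLT.1 hLT.2.2)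
    (Cfsg.Agent.Lib.Helper74.KS12.jComp_comm_le hN hZ T hT1 L hLT) K₁ K₂ hK₁ hK₂ hK₁L hK₂L hne

/-- The property `JCompCentralize G` of helper81's S2950 core holds. -/
theorem jCompCentralize [Finite G] (hL : Cfsg.IsCharacteristicTwoType G)
    (hN : ∀ N : Subgroup G, Cfsg.IsTwoLocal N → Group.IsSolvable ↥N)
    (hZ : ∀ S : Sylow 2 G, Subgroup.centralizer (Cfsg.omegaCenterOf (S : Subgroup G) : Set G) ≤
      Subgroup.normalizer ((S : Subgroup G) : Set G)) :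
    Cfsg.Agent.Lib.Helper81.KS12.JCompCentralize G :=
  fun T L K₁ K₂ hT hT1 hLT hK₁ hK₂ hK₁L hK₂L hne =>
    jComp_centralize_wOf hL hN hZ T L hT hT1 hLT K₁ K₂ hK₁ hK₂ hK₁L hK₂L hne

/-- `W_K = [V_L, K]` for a `J(T)`-component `K` of `L ∈ jOvergroups T`. -/
theorem jComp_wOf_eq [Finite G]
    (hN : ∀ N : Subgroup G, Cfsg.IsTwoLocal N → Group.IsSolvable ↥N)
    (hZ : ∀ S : Sylow 2 G, Subgroup.centralizer (Cfsg.omegaCenterOf (S : Subgroup G) : Set G) ≤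
      Subgroup.normalizer ((S : Subgroup G) : Set G))
    (T L : Subgroup G) (hT : IsPGroup 2 T) (hT1 : T ≠ ⊥) (hLT : L ∈ jOvergroups T)
    (K : Subgroup G) (hK : IsJComponent T K) (hKL : K ≤ L) :
    wOf K = ⁅omegaCenterOf (pCoreOf 2 L), K⁆ :=
  jcomp_wOf_eq_comm hT hK hKL (omegaCenterOf_comm _) (omegaCenterOf_sq _)
    ((Cfsg.Agent.Lib.Helper47.le_normalizer_pCoreOf 2 L).trans
      (normalizer_le_normalizer_omegaCenterOf (pCoreOf 2 L)))
    (Cfsg.Agent.Lib.Helper2.KS12.VL_le_thompson hN hZ hT1 hLT.1 hLT.2.2)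
    (Cfsg.Agent.Lib.Helper2.KS12.CL_le_normalizer_thompson hZ hLT.1 hLT.2.2)
    (Cfsg.Agent.Lib.Helper74.KS12.jComp_comm_le hN hZ T hT1 L hLT K K hK hK hKL hKL)

end Cfsg.Agent.Lib.Helper85.KS12
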